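import Mathlib.GroupTheory.Transfer
import Cfsg.Agent.Characters.BrauerInduction
import Cfsg.Prelude.Def_Blocks

/-!
# Counting p-regular elements

The p-regular elements of a group with centre of index prime to p form a subgroup; their number is
never divisible by p; the p-part of the order times their indicator is a generalized character.
-/

set_option autoImplicit false
set_option linter.style.haveILetI false

namespace CfsgLib.RegularCount

open Cfsg CfsgLib.Characters
open scoped ComplexConjugate

universe u

variable {p : ℕ} [Fact p.Prime]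

theorem exists_regular_subgroup_of_center {E : Type u} [Group E] [Finite E]
    (h : Nat.Coprime (Subgroup.center E).index p) :
    ∃ K : Subgroup E, (∀ e : E, e ∈ K ↔ ¬ p ∣ orderOf e) ∧ ∃ j : ℕ, K.index = p ^ j := by
  have hp : p.Prime := Fact.out
  set c := (Nat.card E).factorization p with hc
  set m := Nat.card E / p ^ c with hm
  set n := (Subgroup.center E).index with hn
  have hcm : p ^ c * m = Nat.card E := Nat.mul_div_cancel' (Nat.ordProj_dvd _ _)
  have hpm : ¬ p ∣ m := Nat.not_dvd_ordCompl hp Nat.card_pos.ne'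
  let ψ : E →* Subgroup.center E :=
    { toFun := fun e => MonoidHom.transferCenterPow E e ^ m
      map_one' := by rw [map_one, one_pow]
      map_mul' := fun a b => by
        rw [map_mul]
        refine Commute.mul_pow (Subtype.ext ?_) m
        exact (Subgroup.mem_center_iff.1 (MonoidHom.transferCenterPow E a).2 _).symm }
  have hψ : ∀ e : E, ((ψ e : Subgroup.center E) : E) = e ^ (n * m) := fun e => by
    simp [ψ, pow_mul, hn, MonoidHom.transferCenterPow_apply]
  refine ⟨ψ.ker, fun e => ?_, ?_⟩
  · rw [MonoidHom.mem_ker, ← OneMemClass.coe_eq_one, hψ, ← orderOf_dvd_iff_pow_eq_one]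
    constructor
    · intro he hpe
      rcases hp.dvd_mul.1 (hpe.trans he) with h' | h'
      · exact hp.ne_one (Nat.eq_one_of_dvd_coprimes h h' dvd_rfl)
      · exact hpm h'
    · intro he
      refine Dvd.dvd.mul_left (Nat.Coprime.dvd_of_dvd_mul_left
        (Nat.Coprime.pow_right c ((hp.coprime_iff_not_dvd.2 he).symm)) ?_) n
      rw [hcm]
      exact orderOf_dvd_natCard e
  · rw [Subgroup.index_ker]
    refine IsPGroup.iff_card.1 (fun z => ⟨c, ?_⟩)
    obtain ⟨e, he⟩ := z.2
    refine Subtype.ext ?_
    rw [SubmonoidClass.coe_pow, OneMemClass.coe_one, ← he, ← map_pow]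
    refine Subtype.ext ?_
    rw [hψ, OneMemClass.coe_one, ← pow_mul, ← orderOf_dvd_iff_pow_eq_one]
    refine (orderOf_dvd_natCard e).trans ?_
    rw [← hcm]
    exact mul_dvd_mul_left _ (Dvd.intro_left n rfl)

theorem exists_regular_subgroup_of_isElementary {q : ℕ} (hq : q.Prime) {E : Type u} [Group E]
    [Finite E] (hE : Cfsg.IsElementary q E) :
    ∃ K : Subgroup E, (∀ e : E, e ∈ K ↔ ¬ p ∣ orderOf e) ∧ ∃ j : ℕ, K.index = p ^ j := by
  have hp : p.Prime := Fact.out
  obtain ⟨x, hx, hxo, k, hk⟩ := hE
  have hle : Subgroup.zpowers x ≤ Subgroup.center E := Subgroup.zpowers_le.2 hx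
  by_cases hqp : q = p
  · subst hqp
    refine ⟨Subgroup.zpowers x, fun e => ⟨fun he hd => ?_, fun he => ?_⟩, k, hk⟩
    · exact hq.ne_one (Nat.eq_one_of_dvd_coprimes hxo
        (hd.trans (orderOf_dvd_of_mem_zpowers he)) dvd_rfl)
    · haveI : (Subgroup.zpowers x).Normal := ⟨fun a ha g => by
        rw [Subgroup.mem_center_iff.1 (hle ha) g, mul_inv_cancel_right]; exact ha⟩
      have h1 := (Subgroup.zpowers x).pow_index_mem e
      rw [hk] at h1
      obtain ⟨i, hi⟩ := exists_pow_eq_self_of_coprime (x := e) (n := q ^ k)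
        (Nat.Coprime.pow_left _ (hq.coprime_iff_not_dvd.2 he))
      rw [← hi]
      exact Subgroup.pow_mem _ h1 i
  · refine exists_regular_subgroup_of_center (Nat.Coprime.coprime_dvd_left ?_
      (Nat.Coprime.pow_left k ((Nat.coprime_primes hq hp).2 hqp)))
    rw [← hk]
    exact Subgroup.index_dvd_of_le hle

omit [Fact p.Prime] in
theorem not_dvd_orderOf_conj {G : Type u} [Group G] {g : G} (u : G) (h : ¬ p ∣ orderOf g) :
    ¬ p ∣ orderOf (u * g * u⁻¹) := by
  rwa [show u * g * u⁻¹ = MulAut.conj u g from rfl, MulEquiv.orderOf_eq]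

theorem not_dvd_card_regular_aux : ∀ (n : ℕ) (G : Type u) [Group G] [Finite G],
    Nat.card G = n → ¬ p ∣ Nat.card {g : G // ¬ p ∣ orderOf g} := by
  have hp : p.Prime := Fact.out
  intro n
  induction n using Nat.strong_induction_on with
  | _ n ih =>
    intro G _ _ hn
    let P : Sylow p G := default
    set C := Subgroup.centralizer (((P : Subgroup G) : Set G)) with hC
    by_cases htop : C = ⊤
    · have hle : (P : Subgroup G) ≤ Subgroup.center G := fun u hu => by
        rw [Subgroup.mem_center_iff]
        intro g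
        exact (Subgroup.mem_centralizer_iff.1 (htop ▸ Subgroup.mem_top g : g ∈ C) u hu).symm
      obtain ⟨K, hK, -⟩ := exists_regular_subgroup_of_center (p := p) (E := G)
        (((hp.coprime_iff_not_dvd).2
          (fun h => P.not_dvd_index (h.trans (Subgroup.index_dvd_of_le hle)))).symm)
      intro hd
      rw [Nat.card_congr (Equiv.subtypeEquivRight fun g => (hK g).symm)] at hd
      obtain ⟨e, he⟩ := exists_prime_orderOf_dvd_card' p (G := K) hd
      exact (hK (e : G)).1 e.2 (by rw [Subgroup.orderOf_coe, he])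
    · let act : MulAction P {g : G // ¬ p ∣ orderOf g} :=
        { smul := fun u x => ⟨(u : G) * x * (u : G)⁻¹, not_dvd_orderOf_conj _ x.2⟩
          one_smul := fun x => Subtype.ext (show ((1 : P) : G) * x * ((1 : P) : G)⁻¹ = x by simp)
          mul_smul := fun u v x => Subtype.ext
            (show ((u * v : P) : G) * x * ((u * v : P) : G)⁻¹ =
              (u : G) * ((v : G) * x * (v : G)⁻¹) * (u : G)⁻¹ by simp [mul_assoc]) }
      have hmod := P.isPGroup'.card_modEq_card_fixedPoints
        (α := {g : G // ¬ p ∣ orderOf g})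
      have hfix : Nat.card (MulAction.fixedPoints P {g : G // ¬ p ∣ orderOf g}) =
          Nat.card {g : C // ¬ p ∣ orderOf g} := by
        refine Nat.card_congr
          { toFun := fun x => ⟨⟨((x : {g : G // ¬ p ∣ orderOf g}) : G), ?_⟩, ?_⟩
            invFun := fun x => ⟨⟨(x : G), by rw [Subgroup.orderOf_coe]; exact x.2⟩, ?_⟩
            left_inv := fun x => rfl
            right_inv := fun x => rfl }
        · refine Subgroup.mem_centralizer_iff.2 fun u hu => ?_
          have h := congrArg Subtype.val (x.2 ⟨u, hu⟩)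
          change u * _ * u⁻¹ = _ at h
          exact mul_inv_eq_iff_eq_mul.1 h
        · rw [← Subgroup.orderOf_coe]
          exact (x : {g : G // ¬ p ∣ orderOf g}).2
        · intro u
          refine Subtype.ext ?_
          show (u : G) * (x : G) * (u : G)⁻¹ = x
          rw [Subgroup.mem_centralizer_iff.1 x.1.2 u u.2, mul_inv_cancel_right]
      have hlt : Nat.card C < n := hn ▸ lt_of_le_of_ne (Subgroup.card_le_card_group C)
        (fun h => htop ((Subgroup.card_eq_iff_eq_top C).1 h))
      intro hd
      refine ih _ hlt C rfl ?_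
      rw [← hfix]
      exact (Nat.ModEq.dvd_iff hmod dvd_rfl).1 hd

/-- The number of `p`-regular elements is not divisible by `p`. -/
theorem not_dvd_card_regular (G : Type u) [Group G] [Finite G] :
    ¬ p ∣ Nat.card {g : G // ¬ p ∣ orderOf g} :=
  not_dvd_card_regular_aux _ G rfl

open Classical in
/-- The `p`-part of the order times the indicator of `p`-regular elements is a generalized
character. -/
theorem isGen_regular {G : Type u} [Group G] [Fintype G] (a : ℕ)
    (ha : (Nat.card G).factorization p = a) :
    Cfsg.IsGeneralizedCharacter G (fun g => if p ∣ orderOf g then 0 else (p : ℂ) ^ a) := by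
  have hp : p.Prime := Fact.out
  refine isGen_of_elementary (fun g h => ?_) fun E q hq hE => ?_
  · show ite _ _ _ = ite _ _ _
    rw [show h * g * h⁻¹ = MulAut.conj h g from rfl, MulEquiv.orderOf_eq]
  · obtain ⟨K, hK, j, hj⟩ := exists_regular_subgroup_of_isElementary (p := p) hq hE
    refine isGen_of_classInner (fun e d => ?_) fun ψ => ?_
    · show ite _ _ _ = ite _ _ _
      rw [Subgroup.orderOf_coe, Subgroup.orderOf_coe,
        show d * e * d⁻¹ = MulAut.conj d e from rfl, MulEquiv.orderOf_eq]
    obtain ⟨z, hz⟩ := classInner_gen (isGen_one (G := K))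
      (isGen_restrict K (isGen_of_isIrr ψ.2))
    have hja : j ≤ a := by
      rw [← ha]
      refine (hp.pow_dvd_iff_le_factorization Nat.card_pos.ne').1 ?_
      rw [← hj]
      exact (K.index_dvd_card).trans (Subgroup.card_subgroup_dvd_card E)
    refine ⟨(p : ℤ) ^ (a - j) * z, ?_⟩
    push_cast
    rw [← hz, Cfsg.classInner, Cfsg.classInner]
    have hsum : ∑ e : E, (if p ∣ orderOf (e : G) then (0 : ℂ) else (p : ℂ) ^ a) *
        conj ((ψ : E → ℂ) e) = (p : ℂ) ^ a * ∑ k : K, 1 * conj ((ψ : E → ℂ) k) := by
      simp only [Subgroup.orderOf_coe, ite_mul, zero_mul, one_mul]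
      rw [Finset.mul_sum, Finset.sum_ite, Finset.sum_const_zero, zero_add,
        Finset.sum_subtype (p := (· ∈ K)) _ (fun e => by simp [hK])]
    rw [hsum, ← Subgroup.index_mul_card K, hj, Nat.cast_mul, Nat.cast_pow,
      ← Nat.sub_add_cancel hja, pow_add]
    have h1 : (p : ℂ) ^ j ≠ 0 := pow_ne_zero _ (Nat.cast_ne_zero.2 hp.ne_zero)
    have h2 : (Nat.card K : ℂ) ≠ 0 := natCard_ne_zero
    field_simp
    simp only [Nat.add_sub_cancel_right]
    ring

end CfsgLib.RegularCount
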