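import Mathlib
import Cfsg.Agent.Blocks.GroupAlgebra

/-!
# Landau's bound

Boundedly many classes give bounded order: unit fractions with a fixed sum and bounded number of
terms have bounded denominators.
-/

set_option autoImplicit false
set_option linter.style.haveILetI false

namespace CfsgLib.RegularCount

universe u

/-- Unit fractions with a prescribed sum and boundedly many terms have bounded denominators. -/
theorem exists_bound_unit_fractions : ∀ (k : ℕ) (r : ℚ), ∃ N : ℕ, ∀ s : Multiset ℕ,
    Multiset.card s ≤ k → (∀ x ∈ s, 0 < x) → (s.map fun x : ℕ => (x : ℚ)⁻¹).sum = r →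
      ∀ x ∈ s, x ≤ N := by
  intro k
  induction k with
  | zero =>
    refine fun r => ⟨0, fun s hs _ _ x hx => ?_⟩
    rw [Multiset.card_eq_zero.1 (Nat.le_zero.1 hs)] at hx
    exact absurd hx (Multiset.notMem_zero x)
  | succ k ih =>
    intro r
    choose N hN using ih
    set b := ⌈((k + 1 : ℕ) : ℚ) / r⌉₊ with hb
    refine ⟨b + (Finset.range (b + 1)).sup fun n : ℕ => N (r - (n : ℚ)⁻¹),
      fun s hs hpos hsum x hx => ?_⟩
    obtain ⟨n, hn, hmin⟩ := Finset.exists_min_image s.toFinset id ⟨x, Multiset.mem_toFinset.2 hx⟩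
    rw [Multiset.mem_toFinset] at hn
    have hr : 0 < r := by
      rw [← hsum, ← Multiset.cons_erase hn, Multiset.map_cons, Multiset.sum_cons]
      refine add_pos_of_pos_of_nonneg (inv_pos.2 (Nat.cast_pos.2 (hpos n hn)))
        (Multiset.sum_nonneg fun y hy => ?_)
      obtain ⟨i, _, rfl⟩ := Multiset.mem_map.1 hy
      positivity
    have hle : r ≤ ((k + 1 : ℕ) : ℚ) * (n : ℚ)⁻¹ := by
      rw [← hsum]
      refine (Multiset.sum_le_card_nsmul _ ((n : ℚ)⁻¹) fun y hy => ?_).trans ?_
      · obtain ⟨i, hi, rfl⟩ := Multiset.mem_map.1 hy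
        exact inv_anti₀ (Nat.cast_pos.2 (hpos n hn))
          (Nat.cast_le.2 (hmin i (Multiset.mem_toFinset.2 hi)))
      · rw [Multiset.card_map, nsmul_eq_mul]
        exact mul_le_mul_of_nonneg_right (Nat.cast_le.2 hs) (by positivity)
    have hnb : n ≤ b := by
      have h : (n : ℚ) ≤ ((k + 1 : ℕ) : ℚ) / r := by
        rw [le_div_iff₀ hr]
        calc (n : ℚ) * r ≤ n * (((k + 1 : ℕ) : ℚ) * (n : ℚ)⁻¹) :=
              mul_le_mul_of_nonneg_left hle (Nat.cast_nonneg n)
          _ = ((k + 1 : ℕ) : ℚ) := by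
              have : (n : ℚ) ≠ 0 := Nat.cast_ne_zero.2 (hpos n hn).ne'
              field_simp
      exact Nat.cast_le.1 (h.trans (Nat.le_ceil _))
    rw [← Multiset.cons_erase hn] at hs hsum hx
    rw [Multiset.card_cons] at hs
    rw [Multiset.map_cons, Multiset.sum_cons] at hsum
    rcases Multiset.mem_cons.1 hx with rfl | hx'
    · omega
    · have h := hN (r - (n : ℚ)⁻¹) (s.erase n) (by omega)
        (fun i hi => hpos i (Multiset.mem_of_mem_erase hi)) (by linarith) x hx'
      have h2 : N (r - (n : ℚ)⁻¹) ≤ (Finset.range (b + 1)).sup fun n : ℕ => N (r - (n : ℚ)⁻¹) :=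
        Finset.le_sup (f := fun n : ℕ => N (r - (n : ℚ)⁻¹)) (Finset.mem_range.2 (by omega))
      omega

/-- Landau: a group with boundedly many classes has bounded order. -/
theorem exists_bound_card_of_card_conjClasses (k : ℕ) : ∃ N : ℕ, ∀ (G : Type u) [Group G]
    [Finite G], Nat.card (ConjClasses G) ≤ k → Nat.card G ≤ N := by
  classical
  obtain ⟨N, hN⟩ := exists_bound_unit_fractions k 1
  refine ⟨N, fun G _ _ hk => ?_⟩
  haveI := Fintype.ofFinite G
  haveI := Fintype.ofFinite (ConjClasses G)
  set c : ConjClasses G → ℕ := fun C => Nat.card (Subgroup.centralizer ({C.out} : Set G)) with hc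
  have hout : ∀ C : ConjClasses G, ConjClasses.mk C.out = C := fun C => Quotient.out_eq C
  refine hN ((Finset.univ : Finset (ConjClasses G)).val.map c) ?_ ?_ ?_ _ ?_
  · rwa [Multiset.card_map, ← Finset.card_def, Finset.card_univ, ← Nat.card_eq_fintype_card]
  · intro x hx
    obtain ⟨C, -, rfl⟩ := Multiset.mem_map.1 hx
    exact Nat.card_pos
  · rw [Multiset.map_map]
    show ∑ C : ConjClasses G, ((c C : ℕ) : ℚ)⁻¹ = 1
    have h : ∀ C : ConjClasses G, ((c C : ℕ) : ℚ)⁻¹ =
        ((Finset.univ.filter fun x : G => ConjClasses.mk x = C).card : ℚ) / Nat.card G := by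
      intro C
      have h1 : (Finset.univ.filter fun x : G => ConjClasses.mk x = C).card =
          (Subgroup.centralizer ({C.out} : Set G)).index := by
        rw [← CfsgLib.Blocks.natCard_class, hout C, ← Fintype.card_subtype,
          Nat.card_eq_fintype_card]
      have h2 : (c C : ℚ) ≠ 0 := Nat.cast_ne_zero.2 Nat.card_pos.ne'
      have h3 : ((Subgroup.centralizer ({C.out} : Set G)).index : ℚ) ≠ 0 :=
        Nat.cast_ne_zero.2 Subgroup.index_ne_zero_of_finite
      rw [h1, ← Subgroup.index_mul_card (Subgroup.centralizer ({C.out} : Set G)), Nat.cast_mul]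
      show (c C : ℚ)⁻¹ = _ / (_ * (c C : ℚ))
      field_simp
    rw [Finset.sum_congr rfl fun C _ => h C, ← Finset.sum_div, ← Nat.cast_sum,
      ← Finset.card_eq_sum_card_fiberwise fun x _ => Finset.mem_univ (ConjClasses.mk x),
      Finset.card_univ, ← Nat.card_eq_fintype_card, div_self]
    exact Nat.cast_ne_zero.2 Nat.card_pos.ne'
  · refine Multiset.mem_map.2 ⟨ConjClasses.mk 1, Finset.mem_univ _, ?_⟩
    have h : (ConjClasses.mk (1 : G)).out = 1 :=
      isConj_one_left.1 (ConjClasses.mk_eq_mk_iff_isConj.1 (hout (ConjClasses.mk 1)))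
    simp only [hc, h]
    refine Nat.card_congr (Equiv.subtypeUnivEquiv fun x => ?_)
    rw [Subgroup.mem_centralizer_singleton_iff]
    simp

end CfsgLib.RegularCount
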